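import Cfsg.Agent.H822.Ore.Fi23Two
import Cfsg.Agent.H511.Ore.Tools
import Cfsg.Agent.H511.Ore.WRow
import Cfsg.Agent.H961.SepFi23

/-!
# The frame of the row `Fi23` of the Ore conjecture (S2443) (helper822)

* `Bd z` : `|C(z, s)| ≤ 39191040` for all `s` of order 3 commuting with `z`; `Bd.all` : it is enough to know it for
  `e p`, `e p e q`, `e p e q e r`;
* `all_comm` : `Fi23` consists of commutators, given `Bd`, the elements of order 3, 9, `T1` and the primes `p ≥ 5`;
* `t1_of_deg` : `T1` from the degree bounds at the prime 23.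
-/

set_option autoImplicit false

namespace Cfsg.Agent.H822.Ore.Fi23Row

open Cfsg Subgroup Cfsg.Agent.KFacts.FiTTh.BasDef
open Cfsg.Agent.KFacts.FiTTh.BasFi (e)
open Cfsg.Agent.H511.Ore Cfsg.Agent.H777.Ore
open Cfsg.Spor (Fi23)

/-- the centralizer of `z` and of every element of order 3 commuting with `z` is small -/
def Bd (z : Fi23) : Prop := ∀ s : Fi23, orderOf s = 3 → s * z = z * s →
  Nat.card (centralizer ({z, s} : Set Fi23)) ≤ 39191040

theorem mem_cent_pair {G : Type*} [Group G] {z s x : G} : x ∈ centralizer ({z, s} : Set G) ↔ x * z = z * x ∧ x * s = s * x := by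
  rw [mem_centralizer_iff]
  constructor
  · intro h
    exact ⟨(h z (Or.inl rfl)).symm, (h s (Or.inr rfl)).symm⟩
  · rintro ⟨h1, h2⟩ y (rfl | rfl)
    · exact h1.symm
    · exact h2.symm

theorem Bd.of_isConj {z w : Fi23} (h : Bd z) (hc : IsConj z w) : Bd w := by
  obtain ⟨x, rfl⟩ := isConj_iff.1 hc
  intro s hs hsz
  have key : ∀ a b : Fi23, a * (x * b * x⁻¹) = x * b * x⁻¹ * a ↔ x⁻¹ * a * x * b = b * (x⁻¹ * a * x) := by
    intro a b
    constructor
    · intro h
      calc x⁻¹ * a * x * b = x⁻¹ * (a * (x * b * x⁻¹)) * x := by group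
        _ = _ := by rw [h]; group
    · intro h
      calc a * (x * b * x⁻¹) = x * (x⁻¹ * a * x * b) * x⁻¹ := by group
        _ = _ := by rw [h]; group
  have h1 := h (x⁻¹ * s * x) (by
    rw [← hs]
    have : x⁻¹ * s * x = MulAut.conj x⁻¹ s := by rw [MulAut.conj_apply, inv_inv]
    rw [this, MulEquiv.orderOf_eq]) ((key _ _).1 hsz)
  refine le_trans (le_of_eq (Nat.card_congr ?_)) h1
  refine Equiv.subtypeEquiv (MulAut.conj x⁻¹).toEquiv fun g => ?_
  have e1 : (MulAut.conj x⁻¹).toEquiv g = x⁻¹ * g * x := by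
    show x⁻¹ * g * x⁻¹⁻¹ = _
    rw [inv_inv]
  rw [e1, mem_cent_pair, mem_cent_pair, key]
  refine and_congr_right fun _ => ?_
  constructor
  · intro h
    calc x⁻¹ * g * x * (x⁻¹ * s * x) = x⁻¹ * (g * s) * x := by group
      _ = _ := by rw [h]; group
  · intro h
    calc g * s = x * (x⁻¹ * g * x * (x⁻¹ * s * x)) * x⁻¹ := by group
      _ = _ := by rw [h]; group

/-- **`M23` is transitive on the subsets of size at most 4** -/
theorem isConj_pr {S T : Finset GolayPt} (hS : none ∉ S) (hT : none ∉ T) (h : S.card = T.card) (h3 : S.card ≤ 4) :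
    IsConj (pr e S) (pr e T) := by
  classical
  have B := Cfsg.Agent.KFacts.FiTTh.BasInv.base
  let eS : Fin S.card ≃ S := (Finset.equivFin S).symm
  let eT : Fin S.card ≃ T := (Finset.equivFinOfCardEq h.symm).symm
  let f : Option (Fin S.card) ↪ GolayPt :=
    ⟨fun o => o.elim none fun i => (eS i : GolayPt), by
      rintro (_ | i) (_ | j) hij
      · rfl
      · exact absurd (by rw [show (none : GolayPt) = (eS j : GolayPt) from hij]; exact (eS j).2) hS
      · exact absurd (by rw [← show (eS i : GolayPt) = none from hij]; exact (eS i).2) hS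
      · exact congrArg some (eS.injective (Subtype.ext hij))⟩
  let g : Option (Fin S.card) ↪ GolayPt :=
    ⟨fun o => o.elim none fun i => (eT i : GolayPt), by
      rintro (_ | i) (_ | j) hij
      · rfl
      · exact absurd (by rw [show (none : GolayPt) = (eT j : GolayPt) from hij]; exact (eT j).2) hT
      · exact absurd (by rw [← show (eT i : GolayPt) = none from hij]; exact (eT i).2) hT
      · exact congrArg some (eT.injective (Subtype.ext hij))⟩
  let o : Fin (S.card + 1) ≃ Option (Fin S.card) := finSuccEquiv _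
  obtain ⟨m, hm⟩ := Cfsg.Agent.KFacts.FiTTh.BasCode.exists_map_emb (n := S.card + 1) (by omega) (o.toEmbedding.trans f) (o.toEmbedding.trans g)
  have hm' : ∀ i, (m : Equiv.Perm GolayPt) (f i) = g i := fun i => by
    have := hm (o.symm i)
    simpa using this
  have hmap : S.map (m : Equiv.Perm GolayPt).toEmbedding = T := by
    apply Finset.eq_of_subset_of_card_le
    · intro p hp
      obtain ⟨q, hq, rfl⟩ := Finset.mem_map.1 hp
      have h1 := hm' (some (eS.symm ⟨q, hq⟩))
      have h2 : f (some (eS.symm ⟨q, hq⟩)) = q := by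
        show ((eS (eS.symm ⟨q, hq⟩) : S) : GolayPt) = q
        rw [Equiv.apply_symm_apply]
      rw [h2] at h1
      show (m : Equiv.Perm GolayPt) q ∈ T
      rw [h1]
      exact Subtype.coe_prop _
    · rw [Finset.card_map, h]
  have h0 : (m : Equiv.Perm GolayPt) none = none := hm' none
  obtain ⟨n, hn⟩ := B.ind_surj ⟨(m : Equiv.Perm GolayPt), mem_M23.2 ⟨m.2, h0⟩⟩
  refine isConj_iff.2 ⟨n, ?_⟩
  rw [B.conj_pr (m := (m : Equiv.Perm GolayPt)) (fun p => by rw [B.ind_spec, hn]), hmap]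

/-- **the bound for all involutions, from the three classes** -/
theorem Bd.all {p q q' r r' r'' : GolayPt} (hp : p ≠ none) (hq : q ≠ none) (hq' : q' ≠ none) (hqq : q ≠ q')
    (hr : r ≠ none) (hr' : r' ≠ none) (hr'' : r'' ≠ none) (h1 : r ≠ r') (h2 : r ≠ r'') (h3 : r' ≠ r'')
    (hA : Bd (e p)) (hB : Bd (e q * e q')) (hC : Bd (e r * e r' * e r'')) {z : Fi23} (hz : z * z = 1) (hz1 : z ≠ 1) :
    Bd z := by
  classical
  have B := Cfsg.Agent.KFacts.FiTTh.BasInv.base
  obtain ⟨y, hy, hc⟩ := Cfsg.Agent.KFacts.FiTTh.BasInv.exists_conj hz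
  obtain ⟨T, hn, hT, rfl⟩ := B.exists_pr hy
  have h4 : T.card = 0 ∨ T.card = 1 ∨ T.card = 2 ∨ T.card = 3 := by omega
  have eA : pr e {p} = e p := pr_singleton p
  have eB : pr e {q, q'} = e q * e q' := B.pr_pair hqq
  have eC : pr e {r, r', r''} = e r * e r' * e r'' := by
    rw [B.pr_insert (by simp [h1, h2]), B.pr_pair h3, mul_assoc]
  rcases h4 with h4 | h4 | h4 | h4
  · rw [Finset.card_eq_zero.1 h4, pr_empty] at hc
    exact absurd (isConj_one_left.1 hc) hz1
  · refine (eA ▸ hA : Bd (pr e {p})).of_isConj ((isConj_pr (by simpa using hp.symm) hn ?_ ?_).trans hc.symm)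
    · rw [Finset.card_singleton, h4]
    · simp
  · have hcard : ({q, q'} : Finset GolayPt).card = 2 := Finset.card_pair hqq
    refine (eB ▸ hB : Bd (pr e {q, q'})).of_isConj ((isConj_pr (by simp [hq.symm, hq'.symm]) hn ?_ ?_).trans hc.symm)
    · rw [hcard, h4]
    · rw [hcard]; norm_num
  · have hcard : ({r, r', r''} : Finset GolayPt).card = 3 := Finset.card_eq_three.2 ⟨r, r', r'', h1, h2, h3, rfl⟩
    refine (eC ▸ hC : Bd (pr e {r, r', r''})).of_isConj
      ((isConj_pr (by simp [hr.symm, hr'.symm, hr''.symm]) hn ?_ ?_).trans hc.symm)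
    · rw [hcard, h4]
    · rw [hcard]; norm_num

theorem cent_pow_le {G : Type*} [Group G] [Finite G] {g x : G} (k : ℕ) (h : g ^ k = x) :
    Nat.card (centralizer ({g} : Set G)) ≤ Nat.card (centralizer ({x} : Set G)) := by
  refine card_le_of_le fun y hy => ?_
  rw [mem_centralizer_singleton_iff] at hy ⊢
  have h1 : Commute y g := hy
  rw [← h]
  exact h1.pow_right k

/-- **the frame** -/
theorem all_comm (hB : ∀ z : Fi23, z * z = 1 → z ≠ 1 → Bd z) (t1 : T1 Fi23 39191040)
    (h3 : ∀ s : Fi23, orderOf s = 3 → IsC s)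
    (h9 : ∀ s : Fi23, orderOf s = 9 → Nat.card (centralizer ({s} : Set Fi23)) ≤ 39191040)
    (h5 : ∀ p : ℕ, p.Prime → 5 ≤ p → ∀ s : Fi23, orderOf s = p → Nat.card (centralizer ({s} : Set Fi23)) ≤ 39191040) :
    AllC Fi23 := by
  have := Cfsg.Agent.KFacts.FiTTh.BasInv.finite
  intro g
  have hg0 : orderOf g ≠ 0 := (orderOf_pos g).ne'
  have hpow : ∀ d, d ∣ orderOf g → d ≠ 0 → orderOf (g ^ (orderOf g / d)) = d := by
    intro d hd hd0
    obtain ⟨k, hk⟩ := hd
    have hk0 : k ≠ 0 := by rintro rfl; exact hg0 (by rw [hk, mul_zero])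
    rw [hk, Nat.mul_div_cancel_left _ (Nat.pos_of_ne_zero hd0), orderOf_pow_of_dvd hk0 ⟨d, by rw [hk, mul_comm]⟩, hk,
      Nat.mul_div_cancel _ (Nat.pos_of_ne_zero hk0)]
  by_cases hp : ∃ p : ℕ, p.Prime ∧ 5 ≤ p ∧ p ∣ orderOf g
  · obtain ⟨p, hp, hp5, hd⟩ := hp
    exact t1 g ((cent_pow_le _ rfl).trans (h5 p hp hp5 _ (hpow p hd hp.ne_zero)))
  have hpr : ∀ p : ℕ, p.Prime → p ∣ orderOf g → p = 2 ∨ p = 3 := by
    intro p hpp hd
    by_contra h
    push Not at h
    have h2 := hpp.two_le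
    have h4 : p ≠ 4 := by rintro rfl; revert hpp; norm_num
    exact hp ⟨p, hpp, by omega, hd⟩
  by_cases h3d : 3 ∣ orderOf g
  swap
  · have h6 : ∃ n, orderOf g = 2 ^ n := by
      refine ⟨_, Nat.eq_prime_pow_of_unique_prime_dvd hg0 ?_⟩
      intro d hd hdd
      rcases hpr d hd hdd with rfl | rfl
      · rfl
      · exact absurd hdd h3d
    obtain ⟨n, hn⟩ := h6
    exact Cfsg.Agent.H822.Ore.Fi23Two.two_comm (n := n) (by rw [← hn]; exact pow_orderOf_eq_one g)
  by_cases h9d : 9 ∣ orderOf g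
  · exact t1 g ((cent_pow_le _ rfl).trans (h9 _ (hpow 9 h9d (by norm_num))))
  by_cases h2d : 2 ∣ orderOf g
  · have hz := hpow 2 h2d (by norm_num)
    have hs := hpow 3 h3d (by norm_num)
    set z := g ^ (orderOf g / 2) with hzd
    set s := g ^ (orderOf g / 3) with hsd
    have hz2 : z * z = 1 := by rw [← pow_two, ← hz]; exact pow_orderOf_eq_one z
    have hz1 : z ≠ 1 := by intro h; rw [h, orderOf_one] at hz; omega
    have hcomm : s * z = z * s := by rw [hzd, hsd, ← pow_add, ← pow_add, add_comm]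
    refine t1 g (le_trans (card_le_of_le fun y hy => ?_) (hB z hz2 hz1 s hs hcomm))
    rw [mem_centralizer_singleton_iff] at hy
    have h1 : Commute y g := hy
    exact mem_cent_pair.2 ⟨h1.pow_right _, h1.pow_right _⟩
  · have h6 : orderOf g = 3 := by
      obtain ⟨k, hk⟩ := h3d
      by_contra h
      have hk1 : k ≠ 1 := by rintro rfl; exact h hk
      obtain ⟨q, hq, hqk⟩ := Nat.exists_prime_and_dvd hk1
      have hqd : q ∣ orderOf g := hqk.trans ⟨3, by rw [hk, mul_comm]⟩
      rcases hpr q hq hqd with rfl | rfl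
      · exact h2d hqd
      · obtain ⟨j, hj⟩ := hqk
        exact h9d ⟨j, by rw [hk, hj]; ring⟩
    exact h3 g h6

/-- **the row** -/
theorem ore_of {S : Type*} [Group S] (h : Spor.IsoFi23 S) (hF : AllC Fi23) : AllC S := by
  obtain ⟨f⟩ := h
  exact hF.congr f.symm

theorem noncomm : ¬ IsMulCommutative Fi23 := by
  intro h
  have := Cfsg.Agent.KFacts.FiTTh.BasInv.finite
  have : IsSimpleGroup Fi23 := Cfsg.Agent.Fischer.Fi23Simple.isFi23.1
  obtain ⟨x, hx⟩ := exists_prime_orderOf_dvd_card' (G := Fi23) (hp := ⟨Nat.prime_two⟩) 2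
    (by rw [Cfsg.Agent.Fischer.Fi23Simple.card_Fi23]; norm_num)
  have hn : (zpowers x).Normal := ⟨fun n hn g => by
    rw [h.is_comm.comm g n, mul_inv_cancel_right]; exact hn⟩
  have h1 : Nat.card (zpowers x) = 2 := by rw [Nat.card_zpowers, hx]
  rcases hn.eq_bot_or_eq_top with h2 | h2
  · rw [h2, Subgroup.card_bot] at h1; omega
  · rw [h2, Subgroup.card_top, Cfsg.Agent.Fischer.Fi23Simple.card_Fi23] at h1; omega

open Cfsg.Agent.H653.Sieve Cfsg.Agent.H651.Two in
/-- the column of the prime 23 -/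
def c23 : CD := ⟨23, 1, 11, 2, [(0, 0), (1, 2), (11, -1), (12, 1), (22, -2)], 2, true⟩

open Cfsg.Agent.H653.Sieve Cfsg.Agent.H651.Two in
/-- **`T1` from the degree bounds at 23** -/
theorem t1_of_deg {DN DX : ℕ} (h1 : DegOn Fi23 (pNE 23) DN) (h2 : DegOn Fi23 (pX 23 11) DX) (h10 : 0 < DN) (h20 : 0 < DX)
    (hK : 39191040 * (80 * DX ^ 2 + 668 * DN ^ 2) < 8 * DN ^ 2 * DX ^ 2) : T1 Fi23 39191040 := by
  have := Cfsg.Agent.KFacts.FiTTh.BasInv.finite
  have hs := Cfsg.Agent.Fischer.Fi23Simple.card_Fi23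
  have : IsSimpleGroup Fi23 := Cfsg.Agent.Fischer.Fi23Simple.isFi23.1
  refine T1.of_weight (noncomm) 4089470473293004800 hs c23 ?_ rfl (by decide +kernel) h1 h2 h10 h20 ?_
  · have : Fact (Nat.Prime 23) := ⟨by norm_num⟩
    obtain ⟨x, hx⟩ := exists_prime_orderOf_dvd_card' (G := Fi23) 23 (by rw [hs]; norm_num)
    refine ⟨by norm_num [c23], x, hx, ?_⟩
    have h := (Cfsg.Agent.H961.SepFi23.data23 (R := zpowers x) (by rw [Nat.card_zpowers, hx])).1
    rwa [zpowers_eq_closure, centralizer_closure] at h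
  · exact hK

end Cfsg.Agent.H822.Ore.Fi23Row
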