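import Cfsg.Agent.H822.Ore.Fi23Asm
import Cfsg.Agent.H868.Ore.Fi23A
import Cfsg.Agent.H692.Ore.Fi23C
import Cfsg.Agent.H935.Fi23.Deg

/-!
# The row `Fi23` of the Ore conjecture (S2443) (helper822)
-/

set_option autoImplicit false

namespace Cfsg.Agent.H822.Ore.Fi23Ore

open Cfsg Subgroup Cfsg.Agent.KFacts.FiTTh.BasDef
open Cfsg.Agent.KFacts.FiTTh.BasFi (e)
open Cfsg.Agent.H511.Ore Cfsg.Agent.H777.Ore Cfsg.Agent.H822.Ore.Fi23Row Cfsg.Agent.H822.Ore.Fi23Frame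
open Cfsg.Agent.Fischer.Fi23Z (z0)
open Cfsg.Spor (Fi23)

theorem hA : Bd z0 := Cfsg.Agent.H868.Ore.Fi23A.bd_z0

theorem hC : Bd (e (some 0) * e (some 1) * e (some 2)) := fun _ h1 h2 =>
  Cfsg.Agent.H692.Ore.Fi23C.two_c (by norm_num) hA
    (Cfsg.Agent.H692.Ore.Fi23C.isConj_W3 (i := 0) (j := 1) (k := 2) (by decide) (by decide) (by decide)) h1 h2

/-- the bounds for all involutions -/
theorem hB {z : Fi23} (hz : z * z = 1) (hz1 : z ≠ 1) : Bd z :=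
  bd_of hA (r := 0) (r' := 1) (r'' := 2) (by decide) (by decide) (by decide) hC hz hz1

theorem h5 (p : ℕ) (hp : p.Prime) (hp5 : 5 ≤ p) (s : Fi23) (hs : orderOf s = p) :
    Nat.card (centralizer ({s} : Set Fi23)) ≤ 39191040 :=
  (Cfsg.Agent.H29.Ore.Fi.card_cent_prime hp hp5 hs).trans (by norm_num)

/-- **the frame without hypotheses on centralizers** -/
theorem frame' {Q : Fi23 → Prop} (t1 : ∀ g : Fi23, Nat.card (centralizer ({g} : Set Fi23)) ≤ 39191040 → Q g)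
    (h2 : ∀ (g : Fi23) (n : ℕ), g ^ 2 ^ n = 1 → Q g) (hodd : ∀ g : Fi23, Odd (orderOf g) → Q g) : ∀ g : Fi23, Q g :=
  frame (fun _ hz hz1 => hB hz hz1) h5 t1 h2 hodd

/-- **the commutator row, from `T1`** -/
theorem allC_of (t1 : T1 Fi23 39191040) : AllC Fi23 :=
  Cfsg.Agent.H822.Ore.Fi23Asm.all_comm hA (r := 0) (r' := 1) (r'' := 2) (by decide) (by decide) (by decide) hC t1

/-- **the Ore conjecture for `Fi23`** -/
theorem ore_fi23 {S : Type*} [Group S] (h : Spor.IsoFi23 S) : AllC S :=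
  ore_of h (allC_of Cfsg.Agent.H935.Fi23.t1_fi23)

end Cfsg.Agent.H822.Ore.Fi23Ore
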