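import Cfsg.Agent.H822.Ore.Fi23Two
import Cfsg.Agent.H854.Ore.Ext
import Cfsg.Agent.H839.ElevenMain

/-!
# The 2-elements of `Fi23`: products of two elements of order 23, and of four elements of square one (helper822)

* `two_prd` : every 2-element is `x y` with `x ^ 23 = y ^ 23 = 1` and `y` conjugate to `x⁻¹`;
* `two_eleven` : every 2-element is `x y` with `x ^ 11 = y ^ 11 = 1`, or has square one;
* `two_four` : every 2-element is a product of four elements of square one.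
-/

set_option autoImplicit false
set_option linter.unusedSectionVars false

namespace Cfsg.Agent.H822.Ore.Fi23Four

open Cfsg Subgroup Cfsg.Agent.SporadicStructure.M24El Cfsg.Agent.SporadicA.GolayPerm Cfsg.Agent.SporadicA.GolayBase
open Cfsg.Agent.H860.Two24Data Cfsg.Agent.H860.Two24
open Cfsg.Agent.KFacts.FiTTh.BasDef Cfsg.Agent.H822.Ore.Fi23Two
open Cfsg.Agent.H854.Ore (ppw el_ppw I2 I2.of_sylow)
open Cfsg.Agent.H777.Ore

/-! ### The elements of order 11 of `M23` -/

/-- elements of order 11 -/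
def E1 : List ℕ := [984818244535754528103549039458486304, 984640170152552721077974325743195437,
  984240771071116135414040344352133579, 955475425785408913600821800140508740]

/-- elements of order 11 -/
def E2 : List ℕ := [984818244535754528103549039458486304, 977792364262558658741481613680450151,
  967398705707390651391904726823441763, 955845364094396747346385524413126835]

/-- the exponents -/
def Ek : List ℕ := [0, 3, 2, 2]

/-- the element of order 23 in the group generated by the pair -/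
def W (j : ℕ) : ℕ := pcomp (E1.getD j idP) (ppw (E2.getD j idP) (Ek.getD j 0))

theorem E1_ok : ∀ P ∈ E1, ok P = true := by decide +kernel

theorem E2_ok : ∀ P ∈ E2, ok P = true := by decide +kernel

theorem E1_none : ∀ j < 4, papp (E1.getD j idP) 23 = 23 := by decide +kernel

theorem E2_none : ∀ j < 4, papp (E2.getD j idP) 23 = 23 := by decide +kernel

theorem W_none : ∀ j < 4, papp (W j) 23 = 23 := by decide +kernel

theorem E_mul : ∀ j < 4, Nat.beq (pcomp (E1.getD j idP) (E2.getD j idP)) (Rs.getD j idP) = true := by decide +kernel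

theorem E1_pow : ∀ j < 4, Nat.beq (ppw (E1.getD j idP) 11) idP = true := by decide +kernel

theorem E2_pow : ∀ j < 4, Nat.beq (ppw (E2.getD j idP) 11) idP = true := by decide +kernel

theorem W_chk : ∀ j < 4, 0 < j → ∀ i < 23,
    ([i, papp (W j) i, papp (W j) (papp (W j) i), papp (W j) (papp (W j) (papp (W j) i))] : List ℕ).Nodup := by
  decide +kernel

theorem aP_pow : Nat.beq (ppw aP 23) idP = true := by decide +kernel

theorem W_ok (j : ℕ) : ok (W j) = true := ok_pcomp (ok_getD E1_ok j) (el_ppw (ok_getD E2_ok j) _).1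

theorem el_W (j : ℕ) : el (W j) = el (E1.getD j idP) * el (E2.getD j idP) ^ (Ek.getD j 0) := by
  unfold W
  rw [el_pcomp (ok_getD E1_ok j) (el_ppw (ok_getD E2_ok j) _).1, (el_ppw (ok_getD E2_ok j) _).2]

theorem nodup_of {P : ℕ} (hP : ok P = true) (hc : ∀ i < 23,
    ([i, papp P i, papp P (papp P i), papp P (papp P (papp P i))] : List ℕ).Nodup) (p : GolayPt) (hp : p ≠ none) :
    ([p, (el P : Equiv.Perm GolayPt) p, (el P : Equiv.Perm GolayPt) ((el P : Equiv.Perm GolayPt) p),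
    (el P : Equiv.Perm GolayPt) ((el P : Equiv.Perm GolayPt) ((el P : Equiv.Perm GolayPt) p))] : List GolayPt).Nodup := by
  have h1 : ∀ q : GolayPt, idx ((el P : Equiv.Perm GolayPt) q) = papp P (idx q) := fun q => idx_el_smul hP q
  have h2 : idx p < 23 := by
    have h3 : ∀ q : GolayPt, q ≠ none → idx q < 23 := by decide +kernel
    exact h3 p hp
  have h4 := hc (idx p) h2
  apply List.Nodup.of_map idx
  simp only [List.map_cons, List.map_nil, h1]
  exact h4

theorem pow_mk {P : ℕ} (hP : ok P = true) (h : papp P 23 = 23) {m : ℕ} (hm : Nat.beq (ppw P m) idP = true) :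
    (⟨_, el_mem hP h⟩ : Spor.M23) ^ m = 1 := by
  have h1 := congrArg el (Nat.eq_of_beq_eq_true hm)
  rw [(el_ppw hP _).2, el_idP] at h1
  have h2 : ((el P : M24) : Equiv.Perm GolayPt) ^ m = 1 := congrArg Subtype.val h1
  exact Subtype.ext h2

section

variable {K : Type*} [Group K] {e : GolayPt → K} (B : Base e)

include B

theorem nconj (n : ↥(normalizer (A e : Set K))) {x : K} (hx : x ∈ A e) : (n : K) * x * (n : K)⁻¹ ∈ A e :=
  (mem_normalizer_iff.1 n.2 x).1 hx

/-- a lift of an element of odd order `m` -/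
theorem lift {a : Spor.M23} {m : ℕ} (hm : Odd m) (ha : a ^ m = 1) :
    ∃ a' : ↥(normalizer (A e : Set K)), B.ind a' = a ∧ (a' : K) ^ m = 1 := by
  obtain ⟨n, rfl⟩ := B.ind_surj a
  refine ⟨n ^ (m + 1), ?_, ?_⟩
  · rw [map_pow, pow_succ, ha, one_mul]
  · have h3 : B.ind (n ^ m) = 1 := by rw [map_pow, ha]
    have h4 : ((n ^ m : ↥(normalizer (A e : Set K))) : K) * (n ^ m : ↥(normalizer (A e : Set K))) = 1 := by
      exact B.sq_A ((B.ind_ker _).1 h3)
    have h5 : (n : K) ^ (2 * m) = 1 := by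
      rw [two_mul, pow_add]
      exact h4
    obtain ⟨r, hr⟩ := hm
    have h6 : (m + 1) * m = 2 * m * (r + 1) := by rw [hr]; ring
    rw [Subgroup.coe_pow, ← pow_mul, h6, pow_mul, h5, one_pow]

/-- the map `x ↦ [x, s]` is onto if `s` acts without fixed points -/
theorem fill [Finite K] {s : ↥(normalizer (A e : Set K))} (hfix : ∀ x ∈ A e, (s : K) * x * (s : K)⁻¹ = x → x = 1)
    {v : K} (hv : v ∈ A e) : ∃ x ∈ A e, x * (s * x⁻¹ * (s : K)⁻¹) = v := by
  have hm : ∀ x ∈ A e, x * (s * x⁻¹ * (s : K)⁻¹) ∈ A e := fun x hx => (A e).mul_mem hx (nconj B s ((A e).inv_mem hx))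
  let f : A e → A e := fun x => ⟨x * (s * (x : K)⁻¹ * (s : K)⁻¹), hm x x.2⟩
  have hinj : Function.Injective f := by
    intro x y hxy
    have h6 : (x : K) * (s * (x : K)⁻¹ * (s : K)⁻¹) = y * (s * (y : K)⁻¹ * (s : K)⁻¹) := congrArg Subtype.val hxy
    have h7 : (s : K) * ((x : K)⁻¹ * y) * (s : K)⁻¹ = (x : K)⁻¹ * y := by
      calc (s : K) * ((x : K)⁻¹ * y) * (s : K)⁻¹
          = (x : K)⁻¹ * (x * (s * (x : K)⁻¹ * (s : K)⁻¹)) * (s * y * (s : K)⁻¹) := by group
        _ = (x : K)⁻¹ * (y * (s * (y : K)⁻¹ * (s : K)⁻¹)) * (s * y * (s : K)⁻¹) := by rw [h6]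
        _ = (x : K)⁻¹ * y := by group
    have h8 := hfix _ ((A e).mul_mem ((A e).inv_mem x.2) y.2) h7
    exact Subtype.ext (inv_mul_eq_one.1 h8)
  obtain ⟨x, hx⟩ := Finite.surjective_of_injective hinj ⟨v, hv⟩
  exact ⟨x, x.2, congrArg Subtype.val hx⟩

/-- **the coset of `a b`** if a word `a b ^ k` acts without fixed points -/
theorem split [Finite K] {a b h : ↥(normalizer (A e : Set K))} {k : ℕ}
    (hfix : ∀ x ∈ A e, ((a * b ^ k : ↥(normalizer (A e : Set K))) : K) * x *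
      ((a * b ^ k : ↥(normalizer (A e : Set K))) : K)⁻¹ = x → x = 1)
    (hv : (h : K) * ((a * b : ↥(normalizer (A e : Set K))) : K)⁻¹ ∈ A e) :
    ∃ p q : K, (h : K) = (p * a * p⁻¹) * (q * b * q⁻¹) := by
  let F : ↥(normalizer (A e : Set K)) → A e →* A e := fun s =>
    { toFun := fun x => ⟨x * (s * (x : K)⁻¹ * (s : K)⁻¹), (A e).mul_mem x.2 (nconj B s ((A e).inv_mem x.2))⟩
      map_one' := Subtype.ext (by simp)
      map_mul' := fun x y => Subtype.ext (by
        show (x * y : K) * (s * (x * y : K)⁻¹ * (s : K)⁻¹) =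
          x * (s * (x : K)⁻¹ * (s : K)⁻¹) * (y * (s * (y : K)⁻¹ * (s : K)⁻¹))
        have e1 := B.comm' (nconj B s ((A e).inv_mem x.2)) y.2
        have e2 := B.comm' (nconj B s ((A e).inv_mem x.2)) (nconj B s ((A e).inv_mem y.2))
        calc (x * y : K) * (s * (x * y : K)⁻¹ * (s : K)⁻¹)
            = x * y * ((s * (y : K)⁻¹ * (s : K)⁻¹) * (s * (x : K)⁻¹ * (s : K)⁻¹)) := by group
          _ = x * y * ((s * (x : K)⁻¹ * (s : K)⁻¹) * (s * (y : K)⁻¹ * (s : K)⁻¹)) := by rw [← e2]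
          _ = x * (y * (s * (x : K)⁻¹ * (s : K)⁻¹)) * (s * (y : K)⁻¹ * (s : K)⁻¹) := by group
          _ = x * ((s * (x : K)⁻¹ * (s : K)⁻¹) * y) * (s * (y : K)⁻¹ * (s : K)⁻¹) := by rw [← e1]
          _ = _ := by group) }
  have hF : ∀ (s : ↥(normalizer (A e : Set K))) (x : A e), ((F s x : A e) : K) = x * (s * (x : K)⁻¹ * (s : K)⁻¹) :=
    fun _ _ => rfl
  let C : ↥(normalizer (A e : Set K)) → A e →* A e := fun s =>
    { toFun := fun x => ⟨s * x * (s : K)⁻¹, nconj B s x.2⟩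
      map_one' := Subtype.ext (by simp)
      map_mul' := fun x y => Subtype.ext (by
        show (s : K) * (x * y) * (s : K)⁻¹ = s * x * (s : K)⁻¹ * (s * y * (s : K)⁻¹)
        group) }
  have hCm : ∀ (s : ↥(normalizer (A e : Set K))) (x : A e), ((C s x : A e) : K) = s * x * (s : K)⁻¹ := fun _ _ => rfl
  have hAc : ∀ x y : A e, x * y = y * x := fun x y => Subtype.ext (B.comm' x.2 y.2)
  let B' : Subgroup (A e) := (F a).range ⊔ ((C a).comp (F b)).range
  have mulB : ∀ y ∈ B', ∃ p q : A e, y = F a p * C a (F b q) := by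
    intro y hy
    have : ((F a).range).Normal := ⟨fun n hn g => by
      rw [hAc g n, mul_assoc, mul_inv_cancel, mul_one]; exact hn⟩
    obtain ⟨_, ⟨p, rfl⟩, _, ⟨q, rfl⟩, rfl⟩ := Subgroup.mem_sup_of_normal_left.1 hy
    exact ⟨p, q, rfl⟩
  let T : ↥(normalizer (A e : Set K)) → Prop := fun s => ∀ x : A e, F s x ∈ B'
  have Tinv : ∀ {s : ↥(normalizer (A e : Set K))}, T s → ∀ b ∈ B', C s b ∈ B' := by
    intro s hs b hb
    have h1 : C s b = (F s b)⁻¹ * b := by
      apply Subtype.ext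
      rw [Subgroup.coe_mul, Subgroup.coe_inv, hF, hCm]
      group
    rw [h1]
    exact B'.mul_mem (B'.inv_mem (hs b)) hb
  have Tmul : ∀ {s t : ↥(normalizer (A e : Set K))}, T s → T t → T (s * t) := by
    intro s t hs ht x
    have h1 : F (s * t) x = F s x * C s (F t x) := by
      apply Subtype.ext
      rw [Subgroup.coe_mul, hF, hF, hCm, hF]
      push_cast
      group
    rw [h1]
    exact B'.mul_mem (hs x) (Tinv hs _ (ht x))
  have Tone : T 1 := fun x => by
    have : F 1 x = 1 := Subtype.ext (by rw [hF]; simp)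
    rw [this]; exact B'.one_mem
  have Tpow : ∀ {s : ↥(normalizer (A e : Set K))} (m : ℕ), T s → T (s ^ m) := by
    intro s m hs
    induction m with
    | zero => rw [pow_zero]; exact Tone
    | succ m ih => rw [pow_succ]; exact Tmul ih hs
  have Ta : T a := fun x => (le_sup_left : (F a).range ≤ B') ⟨x, rfl⟩
  have Tb : T b := by
    intro x
    have h1 : C a (F b x) ∈ B' := (le_sup_right : ((C a).comp (F b)).range ≤ B') ⟨x, rfl⟩
    have h2 : F b x = F a (F b x) * C a (F b x) := by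
      apply Subtype.ext
      rw [Subgroup.coe_mul, hF a, hCm]
      group
    rw [h2]
    exact B'.mul_mem (Ta _) h1
  have hwT : T (a * b ^ k) := Tmul Ta (Tpow k Tb)
  obtain ⟨x, hx, hxv⟩ := fill B hfix hv
  have hxB : (⟨_, hv⟩ : A e) ∈ B' := by
    have : (⟨_, hv⟩ : A e) = F (a * b ^ k) ⟨x, hx⟩ := Subtype.ext hxv.symm
    rw [this]; exact hwT _
  obtain ⟨p, q, hpq⟩ := mulB _ hxB
  have e1 : (h : K) * ((a * b : ↥(normalizer (A e : Set K))) : K)⁻¹ = (p * (a * (p : K)⁻¹ * (a : K)⁻¹)) *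
      (a * (q * (b * (q : K)⁻¹ * (b : K)⁻¹)) * (a : K)⁻¹) := congrArg Subtype.val hpq
  refine ⟨p, q, ?_⟩
  calc (h : K) = (h : K) * ((a * b : ↥(normalizer (A e : Set K))) : K)⁻¹ * ((a * b : ↥(normalizer (A e : Set K))) : K) := by
        group
    _ = (p * (a * (p : K)⁻¹ * (a : K)⁻¹)) * (a * (q * (b * (q : K)⁻¹ * (b : K)⁻¹)) * (a : K)⁻¹) *
        ((a * b : ↥(normalizer (A e : Set K))) : K) := by rw [e1]
    _ = _ := by push_cast; group

/-- a 2-element is conjugate into the normalizer, over one of the four representatives -/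
theorem into [Finite K] (hodd : ¬ 2 ∣ (normalizer (A e : Set K)).index) {g : K} {n : ℕ} (hg : g ^ 2 ^ n = 1) :
    ∃ (h : ↥(normalizer (A e : Set K))) (c : K), g = c * h * c⁻¹ ∧ ∃ j < 4,
      ((B.ind h : Spor.M23) : Equiv.Perm GolayPt) = (el (Rs.getD j idP) : Equiv.Perm GolayPt) := by
  have : Fact (Nat.Prime 2) := ⟨Nat.prime_two⟩
  obtain ⟨c, hc⟩ := Cfsg.Agent.H860.TwoElem.exists_conj_mem (normalizer (A e : Set K)) hodd g hg
  set g1 : ↥(normalizer (A e : Set K)) := ⟨c⁻¹ * g * c, hc⟩ with hg1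
  have h1 : g1 ^ 2 ^ n = 1 := by
    apply Subtype.ext
    have : (c⁻¹ * g * c) ^ 2 ^ n = c⁻¹ * g ^ 2 ^ n * c := by
      have := conj_pow (i := 2 ^ n) (a := c⁻¹) (b := g)
      rwa [inv_inv] at this
    show (c⁻¹ * g * c) ^ 2 ^ n = 1
    rw [this, hg]; group
  have h2 : ((B.ind g1 : Spor.M23) : Equiv.Perm GolayPt) ^ 2 ^ n = 1 := by
    have := congrArg B.ind h1
    rw [map_pow, map_one] at this
    exact congrArg Subtype.val this
  obtain ⟨x, hx, j, hj, hxj⟩ := class23 (B.ind g1).2 h2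
  obtain ⟨y, hy⟩ := B.ind_surj ⟨x, hx⟩
  refine ⟨y * g1 * y⁻¹, c * (y : K)⁻¹, ?_, j, hj, ?_⟩
  · push_cast
    rw [show ((g1 : ↥(normalizer (A e : Set K))) : K) = c⁻¹ * g * c from rfl]
    group
  · rw [← hxj, map_mul, map_mul, map_inv, hy]
    rfl

/-- membership of the quotient -/
theorem mem_of_ind {h g : ↥(normalizer (A e : Set K))} (hh : B.ind h = B.ind g) : (h : K) * (g : K)⁻¹ ∈ A e := by
  exact (B.ind_ker (h * g⁻¹)).1 (by rw [map_mul, map_inv, hh, mul_inv_cancel])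

/-- **every 2-element is a product of two elements of order 11, or has square one** -/
theorem two_eleven_abs [Finite K] (hodd : ¬ 2 ∣ (normalizer (A e : Set K)).index) {g : K} {n : ℕ} (hg : g ^ 2 ^ n = 1) :
    g * g = 1 ∨ ∃ x y : K, x ^ 11 = 1 ∧ y ^ 11 = 1 ∧ g = x * y := by
  obtain ⟨h, c, rfl, j, hj, hind⟩ := into B hodd hg
  rcases Nat.eq_zero_or_pos j with rfl | hj0
  · left
    have h1 : B.ind h = B.ind 1 := by
      rw [map_one]
      apply Subtype.ext
      rw [hind]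
      have h5 : el (Rs.getD 0 idP) = 1 := el_idP
      rw [h5]
      rfl
    have h2 := mem_of_ind B h1
    rw [OneMemClass.coe_one, inv_one, mul_one] at h2
    have h3 := B.sq_A h2
    calc c * h * c⁻¹ * (c * h * c⁻¹) = c * (h * h) * c⁻¹ := by group
      _ = 1 := by rw [h3]; group
  right
  have k1 := pow_mk (ok_getD E1_ok j) (E1_none j hj) (E1_pow j hj)
  have k2 := pow_mk (ok_getD E2_ok j) (E2_none j hj) (E2_pow j hj)
  obtain ⟨a, ha, ha'⟩ := lift B (by decide) k1
  obtain ⟨b, hb, hb'⟩ := lift B (by decide) k2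
  obtain ⟨p, q, hpq⟩ := split B (a := a) (b := b) (h := h) (k := Ek.getD j 0) (by
    intro z hz hzc
    refine fix_eq_one B (n := ((a * b ^ (Ek.getD j 0) : ↥(normalizer (A e : Set K))) : K))
      (m := (el (W j) : Equiv.Perm GolayPt)) ?_ ?_ (nodup_of (W_ok j) (W_chk j hj hj0)) hz hzc
    · intro p
      rw [B.ind_spec, map_mul, map_pow, ha, hb, el_W]
      rfl
    · exact (mem_M23.1 (el_mem (W_ok j) (W_none j hj))).2) (by
    apply mem_of_ind
    rw [map_mul, ha, hb]
    apply Subtype.ext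
    rw [hind, ← Nat.eq_of_beq_eq_true (E_mul j hj), el_pcomp (ok_getD E1_ok j) (ok_getD E2_ok j)]
    rfl)
  refine ⟨c * (p * a * p⁻¹) * c⁻¹, c * (q * b * q⁻¹) * c⁻¹, ?_, ?_, ?_⟩
  · rw [conj_pow, conj_pow, ha']; group
  · rw [conj_pow, conj_pow, hb']; group
  · rw [hpq]; group

/-- **every 2-element is a product of two elements of order 23** -/
theorem two_prd_abs [Finite K] (hodd : ¬ 2 ∣ (normalizer (A e : Set K)).index) {g : K} {n : ℕ} (hg : g ^ 2 ^ n = 1) :
    ∃ x y c : K, x ^ 23 = 1 ∧ y = c * x⁻¹ * c⁻¹ ∧ g = x * y := by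
  obtain ⟨h, c, rfl, j, hj, hind⟩ := into B hodd hg
  have k1 := pow_mk a_ok a_none aP_pow
  obtain ⟨a, ha, ha'⟩ := lift B (by decide) k1
  obtain ⟨b, hb⟩ := B.ind_surj ⟨_, el_mem (ok_getD Bs_ok j) (Bs_none j hj)⟩
  -- `h = v a b a⁻¹ b⁻¹ = (p a p⁻¹) b a⁻¹ b⁻¹`
  have hv : (h : K) * ((a * b * a⁻¹ * b⁻¹ : ↥(normalizer (A e : Set K))) : K)⁻¹ ∈ A e := by
    apply mem_of_ind
    rw [map_mul, map_mul, map_mul, map_inv, map_inv, ha, hb]
    apply Subtype.ext
    rw [hind, comm_el hj]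
    rfl
  obtain ⟨p, hp, hpv⟩ := fill B (s := a) (by
    intro z hz hzc
    refine fix_eq_one B (n := (a : K)) (m := (el aP : Equiv.Perm GolayPt)) ?_ ?_ a_nodup hz hzc
    · intro p
      rw [B.ind_spec, ha]
    · exact (mem_M23.1 (el_mem a_ok a_none)).2) hv
  have key : (h : K) = (p * a * p⁻¹) * (b * (a : K)⁻¹ * (b : K)⁻¹) := by
    calc (h : K) = (h : K) * ((a * b * a⁻¹ * b⁻¹ : ↥(normalizer (A e : Set K))) : K)⁻¹ *
          ((a * b * a⁻¹ * b⁻¹ : ↥(normalizer (A e : Set K))) : K) := by group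
      _ = p * (a * p⁻¹ * (a : K)⁻¹) * ((a * b * a⁻¹ * b⁻¹ : ↥(normalizer (A e : Set K))) : K) := by rw [hpv]
      _ = _ := by push_cast; group
  refine ⟨c * (p * a * p⁻¹) * c⁻¹, c * (b * (a : K)⁻¹ * (b : K)⁻¹) * c⁻¹, c * b * p⁻¹ * c⁻¹, ?_, ?_, ?_⟩
  · rw [conj_pow, conj_pow, ha']; group
  · group
  · rw [key]; group

end

open Cfsg.Agent.H839.Fi23 Cfsg.Agent.LThreeFi23 Cfsg.Agent.Lib.PermNet Cfsg.Agent.Fischer.Fi23Hom

set_option maxRecDepth 100000 in
theorem t11_sq : agree (t11 ++ t11) [] [11589, 8004, 8003, 8000, 8002, 8005, 7999, 8007, 8006, 0] = true := by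
  decide +kernel

/-- an element of order 11 is inverted by an element of square one -/
theorem sr_eleven (y : Spor.Fi23) (hy : y ^ 11 = 1) : I2 y := by
  have := Cfsg.Agent.KFacts.FiTTh.BasInv.finite
  have : Fact (Nat.Prime 11) := ⟨by norm_num⟩
  have h1 : elw t11 * elw t11 = 1 := by
    have h := elw_eq_of_agree t11_sq
    rw [elw_append] at h
    exact h
  have h2 : (elw t11)⁻¹ = elw t11 := inv_eq_of_mul_eq_one_left h1
  refine I2.of_sylow (p := 11) (by rw [Cfsg.Agent.Fischer.Fi23Simple.card_Fi23]; norm_num) (x := elw y11) (t := elw t11)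
    ?_ h1 ?_ hy
  · exact orderOf_eq_prime pow11 y11_ne
  · have := t11_conj
    rwa [h2] at this

/-- **every 2-element of `Fi23` is a product of four elements of square one** -/
theorem two_four {g : Spor.Fi23} {n : ℕ} (hg : g ^ 2 ^ n = 1) : I4 g := by
  have := Cfsg.Agent.KFacts.FiTTh.BasInv.finite
  rcases two_eleven_abs Cfsg.Agent.KFacts.FiTTh.BasInv.base Cfsg.Agent.KFacts.FiTTh.BasInv.hodd hg with
    h | ⟨x, y, hx, hy, rfl⟩
  · exact ⟨g, 1, 1, 1, h, by simp, by simp, by simp, by simp⟩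
  · obtain ⟨s1, t1, hs1, ht1, rfl⟩ := sr_eleven x hx
    obtain ⟨s2, t2, hs2, ht2, rfl⟩ := sr_eleven y hy
    exact ⟨s1, t1, s2, t2, hs1, ht1, hs2, ht2, by simp only [mul_assoc]⟩

/-- **every 2-element of `Fi23` is `x y` with `x` of order dividing 23 and `y` conjugate to `x⁻¹`** -/
theorem two_prd {g : Spor.Fi23} {n : ℕ} (hg : g ^ 2 ^ n = 1) :
    ∃ x y c : Spor.Fi23, x ^ 23 = 1 ∧ y = c * x⁻¹ * c⁻¹ ∧ g = x * y := by
  have := Cfsg.Agent.KFacts.FiTTh.BasInv.finite
  exact two_prd_abs Cfsg.Agent.KFacts.FiTTh.BasInv.base Cfsg.Agent.KFacts.FiTTh.BasInv.hodd hg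

/-- every 2-element of `Fi23` is a product of two elements of order dividing 11, or has square one -/
theorem two_eleven {g : Spor.Fi23} {n : ℕ} (hg : g ^ 2 ^ n = 1) :
    g * g = 1 ∨ ∃ x y : Spor.Fi23, x ^ 11 = 1 ∧ y ^ 11 = 1 ∧ g = x * y := by
  have := Cfsg.Agent.KFacts.FiTTh.BasInv.finite
  exact two_eleven_abs Cfsg.Agent.KFacts.FiTTh.BasInv.base Cfsg.Agent.KFacts.FiTTh.BasInv.hodd hg

end Cfsg.Agent.H822.Ore.Fi23Four
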