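import Cfsg.Agent.H822.Ore.Fi23Row
import Cfsg.Agent.H692.Ore.Fi23B

/-!
# The abstract frame of the rows `Fi23` (helper822)

`frame` : a property of the elements of `Fi23` holds for all of them if it holds for the elements with small centralizer,
the 2-elements and the elements of odd order (given the bounds `Bd` for one involution of each of the classes 2A, 2C).
-/

set_option autoImplicit false

namespace Cfsg.Agent.H822.Ore.Fi23Frame

open Cfsg Subgroup Cfsg.Agent.KFacts.FiTTh.BasDef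
open Cfsg.Agent.KFacts.FiTTh.BasFi (e)
open Cfsg.Agent.H511.Ore Cfsg.Agent.H777.Ore Cfsg.Agent.H822.Ore.Fi23Row
open Cfsg.Agent.Fischer.Fi23Z (z0)
open Cfsg.Spor (Fi23)

/-- the bounds for all involutions from the classes 2A and 2C -/
theorem bd_of (hA : Bd z0) {r r' r'' : ZMod 23} (h1 : r ≠ r') (h2 : r ≠ r'') (h3 : r' ≠ r'')
    (hC : Bd (e (some r) * e (some r') * e (some r''))) {z : Fi23} (hz : z * z = 1) (hz1 : z ≠ 1) : Bd z := by
  have h01 : (0 : ZMod 23) ≠ 1 := by decide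
  refine Bd.all (p := some 0) (q := some 0) (q' := some 1) (r := some r) (r' := some r') (r'' := some r'')
    (by simp) (by simp) (by simp) (by simp) (by simp) (by simp) (by simp) (by simpa using h1) (by simpa using h2)
    (by simpa using h3) ?_ ?_ hC hz hz1
  · obtain ⟨g, -, hg⟩ := Cfsg.Agent.KFacts.FiTTh.BasFi.exists_e 0
    exact hA.of_isConj (isConj_iff.2 ⟨g, hg⟩)
  · intro s hs hc
    exact Cfsg.Agent.H692.Ore.Fi23B.two_b hA (Cfsg.Agent.H692.Ore.Fi23B.isConj_W2 h01) hs hc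

/-- **the abstract frame** -/
theorem frame {Q : Fi23 → Prop} (hB : ∀ z : Fi23, z * z = 1 → z ≠ 1 → Bd z)
    (h5 : ∀ p : ℕ, p.Prime → 5 ≤ p → ∀ s : Fi23, orderOf s = p → Nat.card (centralizer ({s} : Set Fi23)) ≤ 39191040)
    (t1 : ∀ g : Fi23, Nat.card (centralizer ({g} : Set Fi23)) ≤ 39191040 → Q g)
    (h2 : ∀ (g : Fi23) (n : ℕ), g ^ 2 ^ n = 1 → Q g) (hodd : ∀ g : Fi23, Odd (orderOf g) → Q g) : ∀ g : Fi23, Q g := by
  have := Cfsg.Agent.KFacts.FiTTh.BasInv.finite
  intro g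
  have hg0 : orderOf g ≠ 0 := (orderOf_pos g).ne'
  have hpow : ∀ d, d ∣ orderOf g → d ≠ 0 → orderOf (g ^ (orderOf g / d)) = d := by
    intro d hd hd0
    obtain ⟨k, hk⟩ := hd
    have hk0 : k ≠ 0 := by rintro rfl; exact hg0 (by rw [hk, mul_zero])
    rw [hk, Nat.mul_div_cancel_left _ (Nat.pos_of_ne_zero hd0), orderOf_pow_of_dvd hk0 ⟨d, by rw [hk, mul_comm]⟩, hk,
      Nat.mul_div_cancel _ (Nat.pos_of_ne_zero hk0)]
  by_cases hp : ∃ p : ℕ, p.Prime ∧ 5 ≤ p ∧ p ∣ orderOf g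
  · obtain ⟨p, hp, hp5, hd⟩ := hp
    exact t1 g ((cent_pow_le _ rfl).trans (h5 p hp hp5 _ (hpow p hd hp.ne_zero)))
  have hpr : ∀ p : ℕ, p.Prime → p ∣ orderOf g → p = 2 ∨ p = 3 := by
    intro p hpp hd
    by_contra h
    push Not at h
    have h2 := hpp.two_le
    have h4 : p ≠ 4 := by rintro rfl; revert hpp; norm_num
    exact hp ⟨p, hpp, by omega, hd⟩
  by_cases h2d : 2 ∣ orderOf g
  swap
  · exact hodd g (Nat.not_even_iff_odd.1 fun h => h2d h.two_dvd)
  by_cases h3d : 3 ∣ orderOf g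
  swap
  · have h6 : ∃ n, orderOf g = 2 ^ n := by
      refine ⟨_, Nat.eq_prime_pow_of_unique_prime_dvd hg0 ?_⟩
      intro d hd hdd
      rcases hpr d hd hdd with rfl | rfl
      · rfl
      · exact absurd hdd h3d
    obtain ⟨n, hn⟩ := h6
    exact h2 g n (by rw [← hn]; exact pow_orderOf_eq_one g)
  have hz := hpow 2 h2d (by norm_num)
  have hs := hpow 3 h3d (by norm_num)
  set z := g ^ (orderOf g / 2) with hzd
  set s := g ^ (orderOf g / 3) with hsd
  have hz2 : z * z = 1 := by rw [← pow_two, ← hz]; exact pow_orderOf_eq_one z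
  have hz1 : z ≠ 1 := by intro h; rw [h, orderOf_one] at hz; omega
  have hcomm : s * z = z * s := by rw [hzd, hsd, ← pow_add, ← pow_add, add_comm]
  refine t1 g (le_trans (card_le_of_le fun y hy => ?_) (hB z hz2 hz1 s hs hcomm))
  rw [mem_centralizer_singleton_iff] at hy
  have h1 : Commute y g := hy
  exact mem_cent_pair.2 ⟨h1.pow_right _, h1.pow_right _⟩

end Cfsg.Agent.H822.Ore.Fi23Frame
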