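import Cfsg.Agent.H822.Ore.Fi23Frame
import Cfsg.Agent.H822.Ore.Fi23Four
import Cfsg.Agent.H29.Ore.FiB

/-!
# The rows `Fi23` of S2443 and S4171, given the bounds for 2A and 2C and the sieve (helper822)
-/

set_option autoImplicit false

namespace Cfsg.Agent.H822.Ore.Fi23Asm

open Cfsg Subgroup Cfsg.Agent.KFacts.FiTTh.BasDef
open Cfsg.Agent.KFacts.FiTTh.BasFi (e)
open Cfsg.Agent.H511.Ore Cfsg.Agent.H777.Ore Cfsg.Agent.H822.Ore.Fi23Row Cfsg.Agent.H822.Ore.Fi23Frame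
open Cfsg.Agent.Fischer.Fi23Z (z0)
open Cfsg.Spor (Fi23)

/-- **the commutator row** -/
theorem all_comm (hA : Bd z0) {r r' r'' : ZMod 23} (h1 : r ≠ r') (h2 : r ≠ r'') (h3 : r' ≠ r'')
    (hC : Bd (e (some r) * e (some r') * e (some r''))) (t1 : T1 Fi23 39191040) : AllC Fi23 :=
  frame (fun _ hz hz1 => bd_of hA h1 h2 h3 hC hz hz1)
    (fun _ hp hp5 _ hs => (Cfsg.Agent.H29.Ore.Fi.card_cent_prime hp hp5 hs).trans (by norm_num)) t1
    (fun _ _ hg => Cfsg.Agent.H822.Ore.Fi23Two.two_comm hg)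
    (fun _ ho => Cfsg.Agent.H29.Ore.Fi.isC_odd (fun g hg => t1 g (hg.trans (by norm_num))) ho)

/-- **the row of the products of four involutions** -/
theorem all_four (hA : Bd z0) {r r' r'' : ZMod 23} (h1 : r ≠ r') (h2 : r ≠ r'') (h3 : r' ≠ r'')
    (hC : Bd (e (some r) * e (some r') * e (some r'')))
    (t1 : ∀ g : Fi23, Nat.card (centralizer ({g} : Set Fi23)) ≤ 39191040 → I4 g) : Inv4 Fi23 :=
  frame (fun _ hz hz1 => bd_of hA h1 h2 h3 hC hz hz1)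
    (fun _ hp hp5 _ hs => (Cfsg.Agent.H29.Ore.Fi.card_cent_prime hp hp5 hs).trans (by norm_num)) t1
    (fun _ _ hg => Cfsg.Agent.H822.Ore.Fi23Four.two_four hg)
    (fun _ ho => Cfsg.Agent.H29.Ore.Fi.i4_odd (fun g hg => t1 g (hg.trans (by norm_num))) ho)

end Cfsg.Agent.H822.Ore.Fi23Asm
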