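import Cfsg.Agent.KFacts.FiTTh.BasInv
import Cfsg.Agent.H860.Two24
import Cfsg.Agent.H860.TwoElem
import Cfsg.Agent.H843.Ore.Coset
import Cfsg.Agent.H777.Ore.Base

/-!
# Every 2-element of `Fi23` is a commutator (helper822)

`2^11.M23` contains a Sylow 2-subgroup. Every 2-element of `M23` is conjugate to one of four elements `R`, and each
`R` is `[a, b]` with `a` of order 23; `a` acts without fixed points on `2^11`, so the coset of `[a, b]` consists of
commutators.
-/

set_option autoImplicit false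

namespace Cfsg.Agent.H822.Ore.Fi23Two

open Cfsg Subgroup Cfsg.Agent.SporadicStructure.M24El Cfsg.Agent.SporadicA.GolayPerm Cfsg.Agent.SporadicA.GolayBase
open Cfsg.Agent.H860.Two24Data Cfsg.Agent.H860.Two24
open Cfsg.Agent.KFacts.FiTTh.BasDef
open scoped commutatorElement

/-! ### The 2-elements of `M23` -/

/-- an element of order 23 -/
def aP : ℕ := 970014226968780921363612039374245285

/-- the elements `b` -/
def Bs : List ℕ := [984818244535754528103549039458486304, 967074884101922228109667937172472879, 968657519345889581746921983029874059, 965382619106371501276443548413399689]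

/-- the representatives of the 2-elements of `M23` -/
def Rs : List ℕ := [984818244535754528103549039458486304, 964038556896046903995916274500012175, 956246330883087416095772479307663532, 961443992634346170988672481779515750]

/-- conjugating elements -/
def Ds : List (List ℕ) := [[], [0, 836084587717172743387535171170713312, 0, 915798198292007858732830795813862464, 68277056652818081892567608213421120, 925942077043476814839327446768598080, 0, 793312793701805468559126141715659840, 0, 0, 0, 0, 0, 0, 253902343487245561232208493771537472, 0, 0, 0, 806358359331520179517121315705764928, 0, 434478855685519245198499972575181888, 0, 0, 0], [], [], [0, 505623522412418059185555952488782560, 0, 0, 499904963619693225106420009821870208, 511769113567126035307791575891155360, 0, 0, 0, 0, 0, 0, 0, 0, 0, 0, 0, 0, 519447275728700445737921596986824832, 0, 0, 0, 0, 0], [], [0, 0, 0, 0, 154004719152213504133504285269375200, 0, 0, 0, 0, 0, 0, 0, 0, 0, 0, 0, 0, 0, 625895025622436675391405497677058593,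 0, 0, 0, 0, 0]]

/-- the class of the representative -/
def tgt : List ℕ := [0, 1, 0, 0, 2, 0, 3]

/-- check of the conjugating elements -/
def chkD (j p : ℕ) : Bool :=
  !(Nat.beq (papp (rp.getD j idP) p) p) ||
    (ok ((Ds.getD j []).getD p 0) && Nat.beq (papp ((Ds.getD j []).getD p 0) p) 23 &&
      Nat.beq (pcomp ((Ds.getD j []).getD p 0) (rp.getD j idP))
        (pcomp (Rs.getD (tgt.getD j 0) idP) ((Ds.getD j []).getD p 0)))

theorem chkD_all : ∀ j < 7, 0 < j → ∀ p < 24, chkD j p = true := by decide +kernel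

theorem tgt_lt : ∀ j < 7, tgt.getD j 0 < 4 := by decide

theorem Rs_ok : ∀ P ∈ Rs, ok P = true := by decide +kernel

theorem getD_ge {j : ℕ} (h : 7 ≤ j) : rp.getD j idP = idP := by
  have h3 : rp.length ≤ j := by
    have : rp.length = 7 := rfl
    omega
  rw [List.getD_eq_getElem?_getD, List.getElem?_eq_none h3]
  rfl

/-- **every 2-element of `M23` is conjugate to one of four elements** -/
theorem class23 {m : Equiv.Perm GolayPt} (hm : m ∈ Spor.M23) {n : ℕ} (h : m ^ 2 ^ n = 1) :
    ∃ x ∈ Spor.M23, ∃ j < 4, x * m * x⁻¹ = (el (Rs.getD j idP) : Equiv.Perm GolayPt) := by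
  have hm' := mem_M23.1 hm
  obtain ⟨c, j, hcj⟩ := two_conj (u := ⟨m, hm'.1⟩) (n := n) (Subtype.ext h)
  by_cases h1 : 7 ≤ j ∨ j = 0
  · have h2 : el (rp.getD j idP) = 1 := by
      rcases h1 with h1 | rfl
      · rw [getD_ge h1, el_idP]
      · exact el_idP
    rw [h2, mul_inv_eq_one] at hcj
    have h3 : (⟨m, hm'.1⟩ : M24) = 1 := mul_left_cancel (a := c) (by rw [hcj, mul_one])
    have h4 : m = 1 := congrArg Subtype.val h3
    refine ⟨1, one_mem _, 0, by norm_num, ?_⟩
    rw [h4]
    have h5 : el (Rs.getD 0 idP) = 1 := el_idP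
    rw [h5]
    simp
  · rw [not_or, not_le] at h1
    have hck := chkD_all j h1.1 (Nat.pos_of_ne_zero h1.2) (idx (c • (none : GolayPt))) (idx_lt _)
    have hfix : el (rp.getD j idP) • (c • (none : GolayPt)) = c • (none : GolayPt) := by
      rw [← hcj, ← mul_smul]
      have : c * ⟨m, hm'.1⟩ * c⁻¹ * c = c * ⟨m, hm'.1⟩ := by group
      rw [this, mul_smul]
      congr 1
      exact hm'.2
    have hf2 : papp (rp.getD j idP) (idx (c • (none : GolayPt))) = idx (c • (none : GolayPt)) := by
      rw [← idx_el_smul (ok_getD rp_ok j), hfix]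
    unfold chkD at hck
    rw [hf2, Nat.beq_refl, Bool.not_true, Bool.false_or, Bool.and_eq_true, Bool.and_eq_true] at hck
    generalize (Ds.getD j []).getD (idx (c • (none : GolayPt))) 0 = D at hck
    obtain ⟨⟨hok, h5⟩, h6⟩ := hck
    have h6 := congrArg el (Nat.eq_of_beq_eq_true h6)
    rw [el_pcomp hok (ok_getD rp_ok j), el_pcomp (ok_getD Rs_ok _) hok] at h6
    have h7 : (el D * c) • (none : GolayPt) = none := by
      rw [mul_smul, el_smul_pt hok, Nat.eq_of_beq_eq_true h5]
      rfl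
    refine ⟨((el D * c : M24) : Equiv.Perm GolayPt), mem_M23.2 ⟨(el D * c).2, h7⟩, tgt.getD j 0, tgt_lt j h1.1, ?_⟩
    have h8 : (el D * c) * ⟨m, hm'.1⟩ * (el D * c)⁻¹ = el (Rs.getD (tgt.getD j 0) idP) := by
      calc (el D * c) * ⟨m, hm'.1⟩ * (el D * c)⁻¹ = el D * (c * ⟨m, hm'.1⟩ * c⁻¹) * (el D)⁻¹ := by group
        _ = _ := by rw [hcj, h6, mul_inv_cancel_right]
    exact congrArg Subtype.val h8

/-! ### The elements `a`, `b` -/

theorem a_ok : ok aP = true := by decide +kernel

theorem Bs_ok : ∀ P ∈ Bs, ok P = true := by decide +kernel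

theorem a_none : papp aP 23 = 23 := by decide +kernel

theorem Bs_none : ∀ j < 4, papp (Bs.getD j idP) 23 = 23 := by decide +kernel

/-- `[a, b] = R` -/
theorem comm_chk : ∀ j < 4, Nat.beq (pcomp aP (Bs.getD j idP)) (pcomp (Rs.getD j idP) (pcomp (Bs.getD j idP) aP)) = true := by
  decide +kernel

theorem el_mem {P : ℕ} (hP : ok P = true) (h : papp P 23 = 23) : (el P : Equiv.Perm GolayPt) ∈ Spor.M23 := by
  refine mem_M23.2 ⟨(el P).2, ?_⟩
  have h1 := el_smul_pt hP (none : GolayPt)
  have e : idx none = 23 := rfl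
  rw [e, h] at h1
  exact h1

theorem comm_el {j : ℕ} (hj : j < 4) : el (Rs.getD j idP) = el aP * el (Bs.getD j idP) * (el aP)⁻¹ * (el (Bs.getD j idP))⁻¹ := by
  have h := congrArg el (Nat.eq_of_beq_eq_true (comm_chk j hj))
  rw [el_pcomp a_ok (ok_getD Bs_ok j), el_pcomp (ok_getD Rs_ok j) (ok_pcomp (ok_getD Bs_ok j) a_ok),
    el_pcomp (ok_getD Bs_ok j) a_ok] at h
  rw [h]
  group

theorem a_chk : ∀ i < 23, ([i, papp aP i, papp aP (papp aP i), papp aP (papp aP (papp aP i))] : List ℕ).Nodup := by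
  decide +kernel

theorem a_nodup (p : GolayPt) (hp : p ≠ none) : ([p, (el aP : Equiv.Perm GolayPt) p,
    (el aP : Equiv.Perm GolayPt) ((el aP : Equiv.Perm GolayPt) p),
    (el aP : Equiv.Perm GolayPt) ((el aP : Equiv.Perm GolayPt) ((el aP : Equiv.Perm GolayPt) p))] : List GolayPt).Nodup := by
  have h1 : ∀ q : GolayPt, idx ((el aP : Equiv.Perm GolayPt) q) = papp aP (idx q) := fun q => idx_el_smul a_ok q
  have h2 : idx p < 23 := by
    have h3 : ∀ q : GolayPt, q ≠ none → idx q < 23 := by decide +kernel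
    exact h3 p hp
  have h4 := a_chk (idx p) h2
  apply List.Nodup.of_map idx
  simp only [List.map_cons, List.map_nil, h1]
  exact h4

section

variable {K : Type*} [Group K] {e : GolayPt → K} (B : Base e)

include B

/-- an element without orbits of length at most three on the 23 points acts without fixed points on `2^11` -/
theorem fix_eq_one {n : K} {m : Equiv.Perm GolayPt} (h : ∀ p, n * e p * n⁻¹ = e (m p)) (hm0 : m none = none)
    (hm : ∀ p : GolayPt, p ≠ none → ([p, m p, m (m p), m (m (m p))] : List GolayPt).Nodup) {x : K} (hx : x ∈ A e)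
    (hc : n * x * n⁻¹ = x) : x = 1 := by
  classical
  obtain ⟨T, hn, hT, rfl⟩ := B.exists_pr hx
  rw [B.conj_pr h] at hc
  have h0 : none ∉ T.map m.toEmbedding := by
    intro h1
    obtain ⟨p, hp, hpn⟩ := Finset.mem_map.1 h1
    have h2 : m p = m none := by rw [hm0]; exact hpn
    rw [m.injective h2] at hp
    exact hn hp
  have h1 : T.map m.toEmbedding = T := B.pr_inj h0 (by rw [Finset.card_map]; exact hT) hn hT hc
  have h2 : ∀ p ∈ T, m p ∈ T := fun p hp => by
    rw [← h1]
    exact Finset.mem_map.2 ⟨p, hp, rfl⟩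
  rcases T.eq_empty_or_nonempty with rfl | ⟨p, hp⟩
  · exact pr_empty
  · exfalso
    have h3 := hm p (fun h => hn (h ▸ hp))
    have h4 : ([p, m p, m (m p), m (m (m p))] : List GolayPt).toFinset ⊆ T := by
      intro q hq
      simp only [List.mem_toFinset, List.mem_cons, List.not_mem_nil, or_false] at hq
      rcases hq with rfl | rfl | rfl | rfl
      · exact hp
      · exact h2 _ hp
      · exact h2 _ (h2 _ hp)
      · exact h2 _ (h2 _ (h2 _ hp))
    have h5 := Finset.card_le_card h4
    rw [List.toFinset_card_of_nodup h3] at h5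
    simp only [List.length_cons, List.length_nil] at h5
    omega

/-- the coset of `[a, b]` consists of commutators -/
theorem coset_comm [Finite K] {a b g : ↥(normalizer (A e : Set K))}
    (hfix : ∀ x ∈ A e, (a : K) * x * (a : K)⁻¹ = x → x = 1) (hg : B.ind g = B.ind ⁅a, b⁆) :
    Cfsg.Agent.H777.Ore.IsC g := by
  set V : Subgroup ↥(normalizer (A e : Set K)) := (A e).subgroupOf (normalizer (A e : Set K)) with hV
  have hVn : V.Normal := normal_in_normalizer
  have hab : ∀ x ∈ V, ∀ y ∈ V, x * y = y * x := fun x hx y hy =>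
    Subtype.ext (B.comm' (mem_subgroupOf.1 hx) (mem_subgroupOf.1 hy))
  have hcm : ∀ p ∈ V, ⁅p, a⁆ ∈ V := fun p hp => by
    have : ⁅p, a⁆ = p * (a * p⁻¹ * a⁻¹) := by rw [commutatorElement_def]; group
    rw [this]
    exact V.mul_mem hp (hVn.conj_mem _ (V.inv_mem hp) a)
  have hinj : Function.Injective (fun p : ↥V => (⟨⁅(p : ↥(normalizer (A e : Set K))), a⁆, hcm p p.2⟩ : ↥V)) := by
    intro p q hpq
    have h1 : ⁅(p : ↥(normalizer (A e : Set K))), a⁆ = ⁅(q : ↥(normalizer (A e : Set K))), a⁆ := congrArg Subtype.val hpq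
    have h2 : a * ((q : ↥(normalizer (A e : Set K)))⁻¹ * p) * a⁻¹ = (q : ↥(normalizer (A e : Set K)))⁻¹ * p := by
      have h3 : (p : ↥(normalizer (A e : Set K))) * (a * (p : ↥(normalizer (A e : Set K)))⁻¹ * a⁻¹) =
          q * (a * (q : ↥(normalizer (A e : Set K)))⁻¹ * a⁻¹) := by
        rw [commutatorElement_def, commutatorElement_def] at h1
        simpa only [mul_assoc] using h1
      have h4 : (a * (p : ↥(normalizer (A e : Set K)))⁻¹ * a⁻¹) * (a * (p : ↥(normalizer (A e : Set K))) * a⁻¹) = 1 := by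
        group
      calc a * ((q : ↥(normalizer (A e : Set K)))⁻¹ * p) * a⁻¹
          = (a * (q : ↥(normalizer (A e : Set K)))⁻¹ * a⁻¹) * (a * p * a⁻¹) := by group
        _ = (q : ↥(normalizer (A e : Set K)))⁻¹ * (q * (a * (q : ↥(normalizer (A e : Set K)))⁻¹ * a⁻¹)) * (a * p * a⁻¹) := by
            group
        _ = (q : ↥(normalizer (A e : Set K)))⁻¹ * (p * (a * (p : ↥(normalizer (A e : Set K)))⁻¹ * a⁻¹)) * (a * p * a⁻¹) := by
            rw [← h3]
        _ = (q : ↥(normalizer (A e : Set K)))⁻¹ * p := by group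
    have h5 : (q : ↥(normalizer (A e : Set K)))⁻¹ * p = 1 :=
      Subtype.ext (hfix _ (mem_subgroupOf.1 (V.mul_mem (V.inv_mem q.2) p.2)) (congrArg Subtype.val h2))
    exact (Subtype.ext (inv_mul_eq_one.1 h5)).symm
  have hsurj := Finite.injective_iff_surjective.1 hinj
  have hc : Cfsg.Agent.H843.Ore.Cov a b V ⊥ := by
    intro x hx
    obtain ⟨p, hp⟩ := hsurj ⟨x, hx⟩
    refine ⟨p, p.2, 1, V.one_mem, ?_⟩
    have h1 : ⁅(p : ↥(normalizer (A e : Set K))), a⁆ = x := congrArg Subtype.val hp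
    rw [h1, commutatorElement_one_left, mul_one, inv_mul_cancel]
    exact Subgroup.mem_bot.2 rfl
  have hx : ⁅a, b⁆⁻¹ * g ∈ V := by
    rw [mem_subgroupOf, ← B.ind_ker, map_mul, map_inv, hg, inv_mul_cancel]
  obtain ⟨v, -, w, -, h⟩ := Cfsg.Agent.H843.Ore.step_bot hab hc hx
  exact ⟨a * v, b * w, by rw [← commutatorElement_def, h, mul_inv_cancel_left]⟩

/-- **every 2-element is a commutator** -/
theorem two_comm_abs [Finite K] (hodd : ¬ 2 ∣ (normalizer (A e : Set K)).index) {g : K} {n : ℕ} (hg : g ^ 2 ^ n = 1) :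
    Cfsg.Agent.H777.Ore.IsC g := by
  have : Fact (Nat.Prime 2) := ⟨Nat.prime_two⟩
  obtain ⟨c, hc⟩ := Cfsg.Agent.H860.TwoElem.exists_conj_mem (normalizer (A e : Set K)) hodd g hg
  set g1 : ↥(normalizer (A e : Set K)) := ⟨c⁻¹ * g * c, hc⟩ with hg1
  have h1 : g1 ^ 2 ^ n = 1 := by
    apply Subtype.ext
    have : (c⁻¹ * g * c) ^ 2 ^ n = c⁻¹ * g ^ 2 ^ n * c := by
      have := conj_pow (i := 2 ^ n) (a := c⁻¹) (b := g)
      rwa [inv_inv] at this
    show (c⁻¹ * g * c) ^ 2 ^ n = 1
    rw [this, hg]; group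
  have h2 : ((B.ind g1 : Spor.M23) : Equiv.Perm GolayPt) ^ 2 ^ n = 1 := by
    have := congrArg B.ind h1
    rw [map_pow, map_one] at this
    exact congrArg Subtype.val this
  obtain ⟨x, hx, j, hj, hxj⟩ := class23 (B.ind g1).2 h2
  obtain ⟨y, hy⟩ := B.ind_surj ⟨x, hx⟩
  obtain ⟨a, ha⟩ := B.ind_surj ⟨_, el_mem a_ok a_none⟩
  obtain ⟨b, hb⟩ := B.ind_surj ⟨_, el_mem (ok_getD Bs_ok j) (Bs_none j hj)⟩
  have h3 : Cfsg.Agent.H777.Ore.IsC (y * g1 * y⁻¹) := by
    apply coset_comm B (a := a) (b := b)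
    · intro z hz hzc
      refine fix_eq_one B (n := (a : K)) (m := (el aP : Equiv.Perm GolayPt)) ?_ ?_ a_nodup hz hzc
      · intro p
        rw [B.ind_spec, ha]
      · exact (mem_M23.1 (el_mem a_ok a_none)).2
    · apply Subtype.ext
      rw [map_mul, map_mul, map_inv, hy, commutatorElement_def, map_mul, map_mul, map_mul, map_inv, map_inv, ha, hb]
      show x * ((B.ind g1 : Spor.M23) : Equiv.Perm GolayPt) * x⁻¹ = (el aP : Equiv.Perm GolayPt) *
        (el (Bs.getD j idP) : Equiv.Perm GolayPt) * (el aP : Equiv.Perm GolayPt)⁻¹ * (el (Bs.getD j idP) : Equiv.Perm GolayPt)⁻¹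
      rw [hxj, comm_el hj]
      rfl
  have h4 := (Cfsg.Agent.H777.Ore.IsC.of_conj y h3).map (normalizer (A e : Set K)).subtype
  have h5 : (normalizer (A e : Set K)).subtype g1 = c⁻¹ * g * c⁻¹⁻¹ := by rw [inv_inv]; rfl
  rw [h5] at h4
  exact Cfsg.Agent.H777.Ore.IsC.of_conj c⁻¹ h4

end

/-- **every 2-element of `Fi23` is a commutator** -/
theorem two_comm {g : Spor.Fi23} {n : ℕ} (hg : g ^ 2 ^ n = 1) : Cfsg.Agent.H777.Ore.IsC g := by
  have := Cfsg.Agent.KFacts.FiTTh.BasInv.finite
  exact two_comm_abs Cfsg.Agent.KFacts.FiTTh.BasInv.base Cfsg.Agent.KFacts.FiTTh.BasInv.hodd hg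

end Cfsg.Agent.H822.Ore.Fi23Two
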